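import Groth.Agent.L13.HdgCI.Chain
import Groth.Agent.L13.HdgDiv.Main
import Groth.Agent.L05.EulerIndex.HypGeom
import Groth.Agent.L22.Reg.Chi
import Groth.Agent.L03.Euler.Push
import Groth.Agent.L22.Inter.Fga
import Groth.Agent.L16.ProjSpace.Dim

/-!
# Euler characteristics of the twisted forms of a smooth hypersurface
-/

set_option autoImplicit false
set_option linter.style.haveILetI false
set_option linter.unusedSectionVars false
set_option backward.isDefEq.respectTransparency false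
set_option backward.isDefEq.respectTransparency.types false

universe u

open CategoryTheory CategoryTheory.Limits AlgebraicGeometry
open Groth.L15.PnHodge Groth.L00.Tensor Groth.L13.HdgCI
open Groth.L22.Adjunction (OP)
open Groth.L13.HdgDiv (HasSeq)

noncomputable section

namespace Groth.L13.HypGenus

variable {k : Type u} [Field k]

section General

variable {X : Scheme.{u}} [X.Over (Spec (CommRingCat.of k))] [IsProper (X ↘ Spec (CommRingCat.of k))]

theorem euler_sumOf {M T : X.Modules} {c : ℕ} (Z : SumOf M T c) (hM : Coh.IsCoh M) (hT : Coh.IsCoh T) :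
    Curv2.euler k X M = c * Curv2.euler k X T := by
  obtain ⟨B, hB⟩ := Groth.L03.Euler.exists_bound (k := k) (X := X)
  rw [Groth.L03.Euler.euler_eq_sum (k := k) (fun i hi => hB M hM.1 i hi),
    Groth.L03.Euler.euler_eq_sum (k := k) (fun i hi => hB T hT.1 i hi), Finset.mul_sum]
  refine Finset.sum_congr rfl fun i _ => ?_
  haveI := Groth.L21.RR.finite_HH' k hT i
  obtain ⟨e⟩ := nonempty_hh_sum k Z i
  rw [e.finrank_eq, Module.finrank_pi_fintype, Finset.sum_const, Finset.card_univ, Fintype.card_fin, smul_eq_mul]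
  push_cast
  ring

theorem euler_hasSeq {A B C : X.Modules} (h : HasSeq A B C) (hA : FlatMod.IsFinLocFree A)
    (hB : FlatMod.IsFinLocFree B) (hC : FlatMod.IsFinLocFree C) :
    Curv2.euler k X B = Curv2.euler k X A + Curv2.euler k X C := by
  obtain ⟨S, hS, ⟨e₁⟩, ⟨e₂⟩, ⟨e₃⟩⟩ := h
  have hc : ∀ {M M' : X.Modules}, (M' ≅ M) → FlatMod.IsFinLocFree M → Coh.IsCoh M' := fun e hM =>
    Groth.L16.NegPow.isCoh_of_isFinLocFree (Groth.L14.ParaF.finLocFree_of_iso e.symm hM)
  rw [← Groth.L03.Euler.euler_iso (k := k) e₁, ← Groth.L03.Euler.euler_iso (k := k) e₂,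
    ← Groth.L03.Euler.euler_iso (k := k) e₃]
  exact Groth.L03.Euler.euler_add (k := k) hS (hc e₁ hA) (hc e₂ hB) (hc e₃ hC)

end General

variable {n a : ℕ} {G : LefPen.Form (n + 1) k a} [QuasiSeparated (CohB1.ProjSpace.toSpec (n + 1) k)]
  [SmoothOfRelativeDimension n ((LefPen.hypIdeal G).subschemeι ≫ CohB1.ProjSpace.toSpec (n + 1) k)]

omit [QuasiSeparated (CohB1.ProjSpace.toSpec (n + 1) k)] in
theorem ne_zero : G ≠ 0 := by
  intro h
  haveI : IsIso (LefPen.hypIdeal G).subschemeι := (Scheme.isIso_subschemeι_iff_eq_bot _).2 (by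
    refine Scheme.IdealSheafData.ext_of_iSup_eq_top
      (fun i => (⟨LefPen.chart (n + 1) k i, Groth.L21.PlaneCurve.isAffineOpen_chart i⟩ :
        (CohB1.ProjSpace (n + 1) k).affineOpens))
      (top_le_iff.1 fun x _ => TopologicalSpace.Opens.mem_iSup.2 (Groth.L21.PlaneCurve.exists_mem_chart x))
      fun i => ?_
    rw [Groth.L21.PlaneCurve.hypIdeal_chart, h, Scheme.IdealSheafData.ideal_bot]
    simp [LefPen.dehom]
    refine (congrArg _ ?_).trans (map_zero _)
    apply HomogeneousLocalization.val_injective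
    simp
    exact Localization.mk_zero _)
  have h1 : topologicalKrullDim ↥(LefPen.hypIdeal G).subscheme ≤ (n : WithBot ℕ∞) :=
    Groth.L22.Adjunction.topologicalKrullDim_le_relDim
      ((LefPen.hypIdeal G).subschemeι ≫ CohB1.ProjSpace.toSpec (n + 1) k) n
  rw [((LefPen.hypIdeal G).subschemeι.homeomorph).isHomeomorph.topologicalKrullDim_eq,
    Groth.L16.ProjSpace.topologicalKrullDim_eq_of_field] at h1
  have : n + 1 ≤ n := by exact_mod_cast h1
  omega

variable [(LefPen.hypIdeal G).subscheme.Over (Spec (CommRingCat.of k))]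
  (hover : (LefPen.hypIdeal G).subscheme ↘ Spec (CommRingCat.of k) =
    (LefPen.hypIdeal G).subschemeι ≫ CohB1.ProjSpace.toSpec (n + 1) k)

include hover in
theorem isProper_hyp : IsProper ((LefPen.hypIdeal G).subscheme ↘ Spec (CommRingCat.of k)) := by
  haveI := Groth.L22.PDual.proper (n + 1) k
  rw [hover]; infer_instance

include hover in
/-- The twists of the structure sheaf. -/
theorem euler_TY (m : ℤ) :
    Curv2.euler k (LefPen.hypIdeal G).subscheme (TY (LefPen.hypIdeal G).subschemeι m) =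
      Ring.choose (m + (n + 1 : ℕ)) (n + 1) - Ring.choose (m - a + (n + 1 : ℕ)) (n + 1) := by
  have hG := ne_zero (G := G)
  haveI := Groth.L21.PlaneCurve.properProj k (n + 1)
  haveI := Groth.L21.RR.isNoetherian_of_proper (X := CohB1.ProjSpace (n + 1) k) k
  haveI : (CohB1.ProjSpace (n + 1) k).IsSeparated := by
    refine ⟨?_⟩
    rw [← terminal.comp_from (CohB1.ProjSpace.toSpec (n + 1) k)]
    infer_instance
  obtain ⟨f, g, w, hS⟩ := Groth.L21.PlaneCurve.exists_ses (LefPen.hypIdeal G)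
    (Groth.L21.PlaneCurve.nonempty_idealMod_iso hG) m
  have hadd := Groth.L03.Euler.euler_add (k := k) hS (Groth.L21.PlaneCurve.isCoh_twist k (n + 1) _)
    (Groth.L21.PlaneCurve.isCoh_twist k (n + 1) _)
    (Groth.L03.Euler.isCoh_tensor (Groth.L16.ProjTwist.isInvertible_twistProjSpace (n + 1) k _)
      (Groth.L21.RR.isCoh_quotMod (LefPen.hypIdeal G)))
  obtain ⟨e⟩ := Groth.L21.PlaneCurve.nonempty_OX_iso (LefPen.hypIdeal G) m
  have hpush : Curv2.euler k (LefPen.hypIdeal G).subscheme (TY (LefPen.hypIdeal G).subschemeι m) =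
      Curv2.euler k (CohB1.ProjSpace (n + 1) k) (Groth.L21.PlaneCurve.OX (LefPen.hypIdeal G) m) := by
    rw [Groth.L03.Euler.euler_iso (k := k) e]
    exact (Groth.L03.Euler.euler_push (LefPen.hypIdeal G).subschemeι _
      (Groth.L21.PlaneCurve.isQCoh_OC (LefPen.hypIdeal G) _) hover.symm).symm
  change Curv2.euler k (CohB1.ProjSpace (n + 1) k) (Groth.L22.Reg.O' (n + 1) k m) =
    Curv2.euler k (CohB1.ProjSpace (n + 1) k) (Groth.L22.Reg.O' (n + 1) k (m - a)) +
      Curv2.euler k (CohB1.ProjSpace (n + 1) k) (Groth.L21.PlaneCurve.OX (LefPen.hypIdeal G) m) at hadd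
  rw [Groth.L22.Reg.euler_O (Nat.succ_pos n), Groth.L22.Reg.euler_O (Nat.succ_pos n)] at hadd
  rw [hpush]
  linear_combination -hadd

theorem isFinLocFree_AY (p : ℕ) (m : ℤ) : FlatMod.IsFinLocFree (AY (LefPen.hypIdeal G).subschemeι p m) :=
  Groth.L29.DC.isFinLocFree_tensor
    (Groth.L20.DescLocus.isFinLocFree_pullback _
      (Groth.L12.ExtSh.isFinLocFree_wedgeMod (locFree_of_rank (rank_omega (n + 1) k)) p))
    (Groth.L20.ResDescent.isFinLocFree_of_isInvertible (isInvertible_TY _ m))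

include hover in
/-- The pulled back Euler sequence. -/
theorem euler_AY_add (p : ℕ) (m : ℤ) :
    Curv2.euler k (LefPen.hypIdeal G).subscheme (AY (LefPen.hypIdeal G).subschemeι p m) +
      Curv2.euler k (LefPen.hypIdeal G).subscheme (AY (LefPen.hypIdeal G).subschemeι (p + 1) m) =
      ((n + 1 + 1).choose (p + 1) : ℤ) *
        Curv2.euler k (LefPen.hypIdeal G).subscheme (TY (LefPen.hypIdeal G).subschemeι (m - (p + 1 : ℕ))) := by
  haveI := isProper_hyp hover
  let ι := (LefPen.hypIdeal G).subschemeι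
  obtain ⟨S, hS, ⟨e₁⟩, ⟨Z⟩, ⟨e₃⟩⟩ := exists_seq (n + 1) k p m
  have hp : FlatMod.IsFinLocFree (Om (n + 1) k p m) :=
    Groth.L29.DC.isFinLocFree_tensor
      (Groth.L12.ExtSh.isFinLocFree_wedgeMod (locFree_of_rank (rank_omega (n + 1) k)) p)
      (Groth.L20.ResDescent.isFinLocFree_of_isInvertible (Groth.L16.ProjTwist.isInvertible_twistProjSpace (n + 1) k m))
  have h := shortExact_pullback hS (Groth.L14.ParaF.finLocFree_of_iso e₃.symm hp) ι
  haveI : (Scheme.Modules.pullback ι).Additive :=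
    (Scheme.Modules.pullbackPushforwardAdjunction ι).left_adjoint_additive
  obtain ⟨Z'⟩ := nonempty_sumOf_map (Scheme.Modules.pullback ι) Z
  let f₁ : (Scheme.Modules.pullback ι).obj S.X₁ ≅ AY ι (p + 1) m :=
    (Scheme.Modules.pullback ι).mapIso e₁ ≪≫ (Groth.L29.DC.PullTensor.pullTensor ι _ _).symm
  let f₃ : (Scheme.Modules.pullback ι).obj S.X₃ ≅ AY ι p m :=
    (Scheme.Modules.pullback ι).mapIso e₃ ≪≫ (Groth.L29.DC.PullTensor.pullTensor ι _ _).symm
  have c₁ := Groth.L14.ParaF.finLocFree_of_iso f₁.symm (isFinLocFree_AY (G := G) (p + 1) m)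
  have c₃ := Groth.L14.ParaF.finLocFree_of_iso f₃.symm (isFinLocFree_AY (G := G) p m)
  have c₂ := Groth.L12.ExtSh.isFinLocFree_middle h c₁ c₃
  have hadd := Groth.L03.Euler.euler_add (k := k) h (Groth.L16.NegPow.isCoh_of_isFinLocFree c₁)
    (Groth.L16.NegPow.isCoh_of_isFinLocFree c₂) (Groth.L16.NegPow.isCoh_of_isFinLocFree c₃)
  change Curv2.euler k _ ((Scheme.Modules.pullback ι).obj S.X₂) =
    Curv2.euler k _ ((Scheme.Modules.pullback ι).obj S.X₁) +
      Curv2.euler k _ ((Scheme.Modules.pullback ι).obj S.X₃) at hadd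
  rw [euler_sumOf Z' (Groth.L16.NegPow.isCoh_of_isFinLocFree c₂)
    (Groth.L16.NegPow.isCoh_of_isFinLocFree
      (Groth.L20.ResDescent.isFinLocFree_of_isInvertible (isInvertible_TY ι _))),
    Groth.L03.Euler.euler_iso (k := k) f₁, Groth.L03.Euler.euler_iso (k := k) f₃] at hadd
  rw [add_comm]
  exact hadd.symm

variable {F : ℕ → (LefPen.hypIdeal G).subscheme.Modules}
  (hF : ∀ p, ExtPow.IsExtPow p
    (Omega.sheaf ((LefPen.hypIdeal G).subschemeι ≫ CohB1.ProjSpace.toSpec (n + 1) k)) (F p))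

include hover hF in
theorem euler_F_eq_zero (p : ℕ) (m : ℤ) (hp : n < p) :
    Curv2.euler k (LefPen.hypIdeal G).subscheme (CohB1.tensorMod (F p) (TY (LefPen.hypIdeal G).subschemeι m)) = 0 :=
  haveI := isProper_hyp hover
  Groth.L03.Euler.euler_of_isZero (k := k) ((tensorRightF _).map_isZero
    (isZero_wedge (Groth.L02.Canon.isFinLocFreeOfRank_omega
      (f := (LefPen.hypIdeal G).subschemeι ≫ CohB1.ProjSpace.toSpec (n + 1) k) n) (hF p) hp))

include hover in
theorem euler_AY_eq_zero (p : ℕ) (m : ℤ) (hp : n + 1 < p) :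
    Curv2.euler k (LefPen.hypIdeal G).subscheme (AY (LefPen.hypIdeal G).subschemeι p m) = 0 := by
  haveI := isProper_hyp hover
  haveI := (Scheme.Modules.pullbackPushforwardAdjunction (LefPen.hypIdeal G).subschemeι).left_adjoint_additive
  exact Groth.L03.Euler.euler_of_isZero (k := k) ((tensorRightF _).map_isZero
    ((Scheme.Modules.pullback _).map_isZero
      (isZero_wedge (rank_omega (n + 1) k) (Groth.L12.ExtSh.isExtPow_wedgeMod _ p) hp)))

include hover hF in
theorem euler_F_zero (m : ℤ) :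
    Curv2.euler k (LefPen.hypIdeal G).subscheme (AY (LefPen.hypIdeal G).subschemeι 0 m) =
      Curv2.euler k (LefPen.hypIdeal G).subscheme (CohB1.tensorMod (F 0) (TY (LefPen.hypIdeal G).subschemeι m)) := by
  obtain ⟨e⟩ := nonempty_AY_zero (LefPen.hypIdeal G).subschemeι m
  obtain ⟨e'⟩ := Groth.L13.HdgDiv.isExtPow_zero_congr (hF 0)
    (isExtPow_zero' (Omega.sheaf ((LefPen.hypIdeal G).subschemeι ≫ CohB1.ProjSpace.toSpec (n + 1) k)))
  exact Groth.L03.Euler.euler_iso (k := k) (e ≪≫ (tensorUnitLeft _).symm ≪≫ tensorIso e'.symm (Iso.refl _))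

include hover hF in
/-- The conormal sequence. -/
theorem euler_AY_succ (p : ℕ) (m : ℤ) :
    Curv2.euler k (LefPen.hypIdeal G).subscheme (AY (LefPen.hypIdeal G).subschemeι (p + 1) m) =
      Curv2.euler k (LefPen.hypIdeal G).subscheme (CohB1.tensorMod (F p) (TY (LefPen.hypIdeal G).subschemeι (m - a))) +
      Curv2.euler k (LefPen.hypIdeal G).subscheme (CohB1.tensorMod (F (p + 1)) (TY (LefPen.hypIdeal G).subschemeι m)) := by
  haveI := isProper_hyp hover
  let ι := (LefPen.hypIdeal G).subschemeι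
  let g := CohB1.ProjSpace.toSpec (n + 1) k
  haveI : Smooth (ι ≫ g) := SmoothOfRelativeDimension.smooth n _
  obtain ⟨eI⟩ := Groth.L21.PlaneCurve.nonempty_idealMod_iso (ne_zero (G := G))
  obtain ⟨φ, c, w, hS⟩ := Groth.L22.Adjunction.exists_seq g ι
  let eC : Omega.conormal ι ≅ TY ι (-(a : ℤ)) := (Scheme.Modules.pullback ι).mapIso
    (eqToIso (congrArg ClSub.idealMod (LefPen.hypIdeal G).ker_subschemeι) ≪≫ eI)
  have hP := locFree_of_rank (rank_omega (n + 1) k)
  have hΩ := locFree_of_rank (Groth.L02.Canon.isFinLocFreeOfRank_omega (f := ι ≫ g) n)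
  haveI := isQCoh_of_locFree (Groth.L20.DescLocus.isFinLocFree_pullback ι hP)
  have h := Groth.L13.HdgDiv.exists_extPow_seq_sub hS
    (Groth.L22.CurveDeg.Det.isFinLocFreeOfRank_one_of_isInvertible
      (Groth.L18.Ample.isInvertible_of_iso eC.symm (isInvertible_TY ι _))) hΩ p (hF (p + 1)) (hF p)
    (Groth.L20.ExtPull.isExtPow_pullback ι (Groth.L12.ExtSh.isExtPow_wedgeMod (OP (n + 1) k) (p + 1)))
  obtain ⟨t⟩ := nonempty_TY_add ι (-(a : ℤ)) m (m - a) (by ring)
  have h' := (h.tensor (Groth.L21.RR.isFlat_of_isInvertible (isInvertible_TY ι m))).of_iso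
    (tensorIso (tensorComm _ _ ≪≫ tensorIso (Iso.refl _) eC) (Iso.refl _) ≪≫ tensorAssoc _ _ _ ≪≫
      tensorIso (Iso.refl _) t) (Iso.refl _) (Iso.refl _)
  have hl : ∀ q e, FlatMod.IsFinLocFree (CohB1.tensorMod (F q) (TY ι e)) := fun q e =>
    Groth.L29.DC.isFinLocFree_tensor (Groth.L12.ExtSh.isFinLocFree_of_isExtPow hΩ (hF q))
      (Groth.L20.ResDescent.isFinLocFree_of_isInvertible (isInvertible_TY ι e))
  exact euler_hasSeq h' (hl _ _) (isFinLocFree_AY (G := G) _ _) (hl _ _)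

end Groth.L13.HypGenus
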