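import Mathlib.RingTheory.PowerSeries.Basic
import Mathlib.Algebra.Polynomial.Coeff
import Mathlib.RingTheory.Binomial
import Mathlib.Algebra.Polynomial.RingDivision
import Mathlib.RingTheory.PowerSeries.NoZeroDivisors
import Mathlib.Tactic.Ring
import Mathlib.Tactic.LinearCombination

/-!
# The generating series of the Hirzebruch genera of hypersurfaces, from the two recursions
-/

set_option autoImplicit false

open Polynomial

noncomputable section

namespace Groth.L13.HypGenus

/-- The polynomial with given coefficients. -/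
def poly (f : ℕ → ℤ) (M : ℕ) : ℤ[X] := ∑ p ∈ Finset.range (M + 1), C (f p) * X ^ p

theorem coeff_poly {f : ℕ → ℤ} {M : ℕ} (hf : ∀ p, M < p → f p = 0) (i : ℕ) : (poly f M).coeff i = f i := by
  simp only [poly, finsetSum_coeff, coeff_C_mul, coeff_X_pow]
  by_cases h : i ≤ M
  · rw [Finset.sum_eq_single_of_mem i (Finset.mem_range.2 (by omega)) (fun p _ hp => by simp [Ne.symm hp])]
    simp
  · rw [hf i (by omega)]
    exact Finset.sum_eq_zero fun p hp => by
      have : i ≠ p := fun e => by rw [Finset.mem_range] at hp; omega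
      simp [this]

/-- `Σ_j C(N+1, j) χ(O_{P^N}(m - j)) X^j`. -/
def u (N : ℕ) (m : ℤ) : ℤ[X] :=
  poly (fun j => ((N + 1).choose j : ℤ) * Ring.choose (m - j + N) N) (N + 1)

theorem coeff_u (N : ℕ) (m : ℤ) (j : ℕ) :
    (u N m).coeff j = ((N + 1).choose j : ℤ) * Ring.choose (m - j + N) N :=
  coeff_poly (fun p hp => by simp [Nat.choose_eq_zero_of_lt hp]) j

theorem u_step (N : ℕ) (m : ℤ) : u (N + 1) (m + 1) - u N (m + 1) = u (N + 1) m + X * u N m := by
  refine Polynomial.ext fun j => ?_
  rw [coeff_sub, coeff_add, coeff_u, coeff_u, coeff_u]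
  have key : ∀ x : ℤ, Ring.choose (x + 1) (N + 1) = Ring.choose x N + Ring.choose x (N + 1) :=
    fun x => Ring.choose_succ_succ x N
  cases j with
  | zero =>
    simp only [coeff_X_mul_zero, Nat.choose_zero_right, Nat.cast_one, one_mul, add_zero, Nat.cast_zero, sub_zero]
    push_cast
    rw [show m + 1 + ((N : ℤ) + 1) = (m + 1 + N) + 1 by ring, key,
      show m + ((N : ℤ) + 1) = m + 1 + N by ring]
    ring
  | succ j =>
    rw [coeff_X_mul, coeff_u, Nat.choose_succ_succ' (N + 1) j]
    push_cast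
    rw [show m + 1 - ((j : ℤ) + 1) + ((N : ℤ) + 1) = (m - j + N) + 1 by ring, key,
      show m + 1 - ((j : ℤ) + 1) + (N : ℤ) = m - j + N by ring,
      show m - ((j : ℤ) + 1) + ((N : ℤ) + 1) = m - j + N by ring]
    ring

theorem u_zero (m : ℤ) : u 0 m = 1 + X := by
  refine Polynomial.ext fun j => ?_
  rw [coeff_u, coeff_add, coeff_one, coeff_X]
  rcases j with _ | _ | j <;> simp [Nat.choose_eq_zero_of_lt]

theorem u_one (N : ℕ) : u N 1 = C ((N : ℤ) + 1) * (1 + X) := by
  refine Polynomial.ext fun j => ?_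
  rw [coeff_u, coeff_C_mul, coeff_add, coeff_one, coeff_X]
  rcases j with _ | _ | j
  · have h : Ring.choose ((1 : ℤ) - (0 : ℕ) + N) N = ((N + 1).choose N : ℤ) := by
      rw [← Ring.choose_natCast]; congr 1; push_cast; ring
    rw [h]
    simp
  · have h : Ring.choose ((1 : ℤ) - (1 : ℕ) + N) N = (N.choose N : ℤ) := by
      rw [← Ring.choose_natCast]; congr 1; push_cast; ring
    rw [h]
    simp
  · by_cases hj : j + 2 ≤ N + 1
    · have h : Ring.choose ((1 : ℤ) - (j + 1 + 1 : ℕ) + N) N = (((N - (j + 1)).choose N : ℕ) : ℤ) := by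
        rw [← Ring.choose_natCast]; congr 1; omega
      rw [h, Nat.choose_eq_zero_of_lt (show N - (j + 1) < N by omega)]
      simp
    · rw [Nat.choose_eq_zero_of_lt (by omega)]
      simp

local notation "z" => (PowerSeries.X : PowerSeries ℤ[X])
local notation "y" => (PowerSeries.C (Polynomial.X : ℤ[X]) : PowerSeries ℤ[X])

/-- The series of the `u N m`. -/
def U (m : ℤ) : PowerSeries ℤ[X] := PowerSeries.mk fun N => u N m

theorem coeff_one_add_yz (f : PowerSeries ℤ[X]) (n : ℕ) :
    PowerSeries.coeff (n + 1) ((1 + y * z) * f) = PowerSeries.coeff (n + 1) f + X * PowerSeries.coeff n f := by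
  rw [add_mul, one_mul, map_add, mul_assoc, PowerSeries.coeff_C_mul, PowerSeries.coeff_succ_X_mul]

theorem coeff_one_sub_z (f : PowerSeries ℤ[X]) (n : ℕ) :
    PowerSeries.coeff (n + 1) ((1 - z) * f) = PowerSeries.coeff (n + 1) f - PowerSeries.coeff n f := by
  rw [sub_mul, one_mul, map_sub, PowerSeries.coeff_succ_X_mul]

theorem U_step (m : ℤ) : (1 - z) * U (m + 1) = (1 + y * z) * U m := by
  refine PowerSeries.ext fun n => ?_
  cases n with
  | zero =>
    simp only [PowerSeries.coeff_zero_eq_constantCoeff, map_mul, map_sub, map_add, map_one,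
      PowerSeries.constantCoeff_X, sub_zero, mul_zero, add_zero, one_mul]
    simp only [← PowerSeries.coeff_zero_eq_constantCoeff_apply, U, PowerSeries.coeff_mk, u_zero]
  | succ n =>
    rw [coeff_one_sub_z, coeff_one_add_yz]
    simp only [U, PowerSeries.coeff_mk]
    exact u_step n m

theorem U_pow (m : ℤ) : ∀ i : ℕ, (1 - z) ^ i * U (m + i) = (1 + y * z) ^ i * U m
  | 0 => by simp
  | i + 1 => by
    have h := U_pow m i
    have h' := U_step (m + i)
    rw [show m + ((i + 1 : ℕ) : ℤ) = m + i + 1 by push_cast; ring]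
    linear_combination (1 - z) ^ i * h' + (1 + y * z) * h

theorem U_one : (1 - z) * ((1 - z) * U 1) = 1 + y := by
  have h1 : (1 - z) * U 1 = PowerSeries.mk fun _ => 1 + X := by
    refine PowerSeries.ext fun n => ?_
    cases n with
    | zero =>
      simp only [PowerSeries.coeff_zero_eq_constantCoeff, map_mul, map_sub, map_one, PowerSeries.constantCoeff_X,
        sub_zero, one_mul]
      simp only [← PowerSeries.coeff_zero_eq_constantCoeff_apply, U, PowerSeries.coeff_mk, u_one]
      simp
    | succ n =>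
      rw [coeff_one_sub_z]
      simp only [U, PowerSeries.coeff_mk, u_one]
      push_cast
      simp only [map_add, map_natCast, map_one]
      ring
  rw [h1]
  refine PowerSeries.ext fun n => ?_
  cases n with
  | zero =>
    simp only [PowerSeries.coeff_zero_eq_constantCoeff, map_mul, map_sub, map_add, map_one, PowerSeries.constantCoeff_X,
      sub_zero, one_mul, PowerSeries.constantCoeff_C]
    simp [← PowerSeries.coeff_zero_eq_constantCoeff_apply]
  | succ n =>
    rw [coeff_one_sub_z]
    simp [PowerSeries.coeff_one, PowerSeries.coeff_C]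

theorem eq_zero_of_recursion {D : ℤ → PowerSeries ℤ[X]} {a : ℤ} (h : ∀ m, D m + y * D (m - a) = 0) (m : ℤ) :
    D m = 0 := by
  have key : ∀ (i : ℕ) (m : ℤ) (n : ℕ), X ^ i ∣ PowerSeries.coeff n (D m) := by
    intro i
    induction i with
    | zero => intro m n; simp
    | succ i ih =>
      intro m n
      have e := congrArg (PowerSeries.coeff n) (h m)
      rw [map_add, PowerSeries.coeff_C_mul, map_zero, add_eq_zero_iff_eq_neg] at e
      rw [e, dvd_neg, pow_succ']
      exact mul_dvd_mul_left _ (ih _ _)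
  refine PowerSeries.ext fun n => Polynomial.ext fun i => ?_
  rw [map_zero, coeff_zero]
  exact Polynomial.X_pow_dvd_iff.1 (key (i + 1) m n) i (Nat.lt_succ_self i)

variable (a : ℕ) (g A : ℕ → ℕ → ℤ → ℤ)
  (hg : ∀ N p m, 1 ≤ N → N ≤ p → g N p m = 0) (hA : ∀ N p m, 1 ≤ N → N < p → A N p m = 0)
  (hgA : ∀ N p m, 1 ≤ N → A N (p + 1) m = g N p (m - a) + g N (p + 1) m)
  (h0 : ∀ N m, 1 ≤ N → A N 0 m = g N 0 m)
  (ht : ∀ N m, 1 ≤ N → A N 0 m = Ring.choose (m + N) N - Ring.choose (m - a + N) N)
  (hAA : ∀ N p m, 1 ≤ N → A N p m + A N (p + 1) m = ((N + 1).choose (p + 1) : ℤ) *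
    (Ring.choose (m - ((p + 1 : ℕ) : ℤ) + N) N - Ring.choose (m - a - ((p + 1 : ℕ) : ℤ) + N) N))

/-- The series of the twisted genera. -/
def W (m : ℤ) : PowerSeries ℤ[X] :=
  PowerSeries.mk fun N => if N = 0 then 0 else poly (fun p => g N p m) N

include hg hA hgA h0 ht hAA in
theorem W_rec (m : ℤ) : (1 + y) * (W g m + y * W g (m - a)) = U m - U (m - a) := by
  refine PowerSeries.ext fun N => ?_
  rw [add_mul, one_mul, map_add, PowerSeries.coeff_C_mul, map_add, PowerSeries.coeff_C_mul, map_sub]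
  simp only [W, U, PowerSeries.coeff_mk]
  rcases Nat.eq_zero_or_pos N with rfl | hN
  · simp [u_zero]
  simp only [if_neg (show N ≠ 0 by omega)]
  have hgf : ∀ m, ∀ p, N < p → (fun p => g N p m) p = 0 := fun m p hp => hg N p m hN (by omega)
  have e : poly (fun p => g N p m) N + X * poly (fun p => g N p (m - a)) N = poly (fun p => A N p m) N := by
    refine Polynomial.ext fun p => ?_
    rw [coeff_add, coeff_poly (hgf m), coeff_poly (fun p hp => hA N p m hN hp)]
    cases p with
    | zero => rw [coeff_X_mul_zero, add_zero, h0 N m hN]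
    | succ p => rw [coeff_X_mul, coeff_poly (hgf _), hgA N p m hN]; ring
  rw [e]
  refine Polynomial.ext fun p => ?_
  rw [coeff_add, coeff_sub, coeff_u, coeff_u]
  cases p with
  | zero =>
    rw [coeff_X_mul_zero, add_zero, coeff_poly (fun p hp => hA N p m hN hp), ht N m hN]
    simp
  | succ p =>
    rw [coeff_X_mul, coeff_poly (fun p hp => hA N p m hN hp), coeff_poly (fun p hp => hA N p m hN hp),
      add_comm, hAA N p m hN]
    push_cast
    ring

include hg hA hgA h0 ht hAA in
/-- The generating series. -/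
theorem series_eq : (1 - z) * (1 + y * z) * ((1 + y * z) ^ a + y * (1 - z) ^ a) * W g 0 =
    (1 + y * z) ^ a - (1 - z) ^ a := by
  have hy : (1 + y : PowerSeries ℤ[X]) ≠ 0 := fun h => by
    have h1 := congrArg (fun f => Polynomial.coeff (PowerSeries.coeff 0 f) 0) h
    simp at h1
  have R := W_rec a g A hg hA hgA h0 ht hAA
  have hUa : ∀ m : ℤ, (1 - z) ^ a * U m = (1 + y * z) ^ a * U (m - a) := fun m => by
    have := U_pow (m - a) a
    rwa [sub_add_cancel] at this
  let D : ℤ → PowerSeries ℤ[X] := fun m => (1 + y * z) ^ a * W g (m - a) - (1 - z) ^ a * W g m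
  have hD : ∀ m : ℤ, D m + y * D (m - (a : ℤ)) = 0 := fun m => by
    refine (mul_right_inj' hy).1 ?_
    rw [mul_zero]
    linear_combination (1 + y * z) ^ a * R (m - a) - (1 - z) ^ a * R m - hUa m + hUa (m - a)
  have hD0 : (1 + y * z) ^ a * W g (0 - a) - (1 - z) ^ a * W g 0 = 0 := eq_zero_of_recursion hD 0
  have s1 : (1 - z) * U 1 = (1 + y * z) * U 0 := by simpa using U_step 0
  have s2 : (1 - z) ^ (a + 1) * U 1 = (1 + y * z) ^ (a + 1) * U (0 - a) := by
    rw [pow_succ, pow_succ, mul_assoc, s1, mul_left_comm, hUa 0]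
    ring
  refine (mul_right_inj' hy).1 ?_
  linear_combination (1 + y * z) * (1 - z) * (1 + y * z) ^ a * R 0 -
    (1 + y) * (1 + y * z) * (1 - z) * y * hD0 - (1 - z) * (1 + y * z) ^ a * s1 + (1 - z) * s2 +
    ((1 + y * z) ^ a - (1 - z) ^ a) * U_one

end Groth.L13.HypGenus
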